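import Cfsg.Agent.Spectrum.LinearTypes

/-!
The cube of a projective special linear group absorbs an elementary abelian factor.
-/

set_option autoImplicit false
set_option linter.unusedSectionVars false
set_option linter.style.haveILetI false
set_option linter.deprecated false

namespace CfsgLib.Spectrum.Cube

open Polynomial Matrix

variable {F : Type*} [Field F] [Fintype F] {p : ℕ} [Fact p.Prime] [CharP F p]

theorem exists_singer (p : ℕ) [Fact p.Prime] [CharP F p] (d : ℕ) (hd : 1 ≤ d) :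
    ∃ M : Matrix (Fin d) (Fin d) F, M.det = 1 ∧ orderOf M = qsum F d := by
  haveI : NeZero d := ⟨by omega⟩
  letI := ZMod.algebra F p
  let K := FiniteField.Extension F p d
  haveI : Module.Finite F K := inferInstance
  haveI := Fintype.ofFinite K
  have hfr : Module.finrank F K = d := FiniteField.finrank_extension F p d
  obtain ⟨g, hg⟩ := IsCyclic.exists_generator (α := Kˣ)
  have hg' : orderOf g = Nat.card F ^ d - 1 := by
    rw [orderOf_eq_card_of_forall_mem_zpowers hg, Nat.card_units,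
      FiniteField.natCard_extension F p d]
  have hq : 2 ≤ Nat.card F := Finite.one_lt_card
  obtain ⟨z, hz⟩ : ∃ z : Kˣ, z = g ^ (Nat.card F - 1) := ⟨_, rfl⟩
  have hzo : orderOf z = qsum F d := by
    rw [hz, orderOf_pow' _ (by omega), hg', ← qsum_mul,
      Nat.gcd_eq_right (dvd_mul_right _ _), Nat.mul_div_cancel_left _ (by omega)]
  have hnorm : Algebra.norm F (z : K) = 1 := by
    apply (algebraMap F K).injective
    rw [FiniteField.algebraMap_norm_eq_pow_sum, hfr, map_one, hz, ← Units.val_pow_eq_pow_val,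
      ← pow_mul, show (Nat.card F - 1) * ∑ i ∈ Finset.range d, Nat.card F ^ i = Nat.card F ^ d - 1
        from qsum_mul d, ← hg', pow_orderOf_eq_one, Units.val_one]
  let b := Module.finBasisOfFinrankEq F K hfr
  refine ⟨Algebra.leftMulMatrix b (z : K), ?_, ?_⟩
  · rw [← Algebra.norm_eq_matrix_det, hnorm]
  · refine (orderOf_injective (Algebra.leftMulMatrix b).toRingHom.toMonoidHom
      (Algebra.leftMulMatrix_injective b) (z : K)).trans ?_
    rw [orderOf_units, hzo]

theorem clog_dvd_clog {l l' : ℕ} (h : l ≤ l') : p ^ Nat.clog p l ∣ p ^ Nat.clog p l' :=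
  Nat.pow_dvd_pow p (Nat.clog_mono_right p h)

theorem exists_jordan_block (l : ℕ) (hl : 1 ≤ l) :
    ∃ J : Matrix (Fin l) (Fin l) F, J.det = 1 ∧ orderOf J = p ^ Nat.clog p l ∧
      ∀ (j : ℕ) (c : F), J ^ j = scalar (Fin l) c → c = 1 := by
  have hp := (Fact.out : p.Prime)
  haveI : Nonempty (Fin l) := ⟨⟨0, hl⟩⟩
  haveI : ExpChar (Matrix (Fin l) (Fin l) F) p :=
    expChar_of_injective_algebraMap (FaithfulSMul.algebraMap_injective F (Matrix (Fin l) (Fin l) F)) p
  let N : Matrix (Fin l) (Fin l) F := Matrix.of fun i j => if (j : ℕ) = i + 1 then 1 else 0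
  have hN : ∀ k i j, (N ^ k) i j = if (j : ℕ) = i + k then 1 else 0 := by
    intro k
    induction k with
    | zero => intro i j; simp [Matrix.one_apply, Fin.ext_iff, eq_comm]
    | succ k ih =>
      intro i j
      rw [pow_succ, Matrix.mul_apply]
      simp only [ih, N, Matrix.of_apply]
      by_cases h : (i : ℕ) + k < l
      · rw [Finset.sum_eq_single ⟨i + k, h⟩]
        · simp [Nat.add_assoc]
        · intro b _ hb
          rw [if_neg (fun e => hb (Fin.ext e)), zero_mul]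
        · simp
      · rw [if_neg (by omega), Finset.sum_eq_zero]
        intro b _
        rw [if_neg (by omega), zero_mul]
  have hNp : ∀ k, (1 + N) ^ p ^ k = 1 + N ^ p ^ k := fun k => by
    rw [add_pow_expChar_pow_of_commute p k (Commute.one_left N), one_pow]
  have hvanish : ∀ k, l ≤ k → N ^ k = 0 := fun k hk => Matrix.ext fun i j => by
    rw [hN, if_neg (by omega)]; rfl
  have hord : orderOf (1 + N) = p ^ Nat.clog p l := by
    rcases Nat.eq_zero_or_pos (Nat.clog p l) with h0 | h0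
    · have hl1 : l ≤ 1 := by simpa [h0] using Nat.le_pow_clog hp.one_lt l
      rw [h0, pow_zero, orderOf_eq_one_iff]
      have := hvanish 1 hl1
      rw [pow_one] at this
      rw [this, add_zero]
    obtain ⟨e, he⟩ : ∃ e, Nat.clog p l = e + 1 := ⟨Nat.clog p l - 1, by omega⟩
    rw [he]
    refine orderOf_eq_prime_pow ?_ ?_
    · intro e1
      have hlt : p ^ e < l := (Nat.lt_clog_iff_pow_lt hp.one_lt).1 (by omega)
      rw [hNp, add_eq_left] at e1
      have := congrFun (congrFun e1 ⟨0, by omega⟩) ⟨p ^ e, hlt⟩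
      rw [hN, if_pos (by simp)] at this
      exact one_ne_zero this
    · rw [hNp, hvanish _ (he ▸ Nat.le_pow_clog hp.one_lt l), add_zero]
  refine ⟨1 + N, ?_, hord, ?_⟩
  · rw [Matrix.det_of_upperTriangular]
    · refine Finset.prod_eq_one fun i _ => ?_
      simp [N]
    · intro i j hij
      have hij' : (j : ℕ) < i := hij
      have hne : i ≠ j := fun e => by rw [e] at hij'; omega
      rw [Matrix.add_apply, Matrix.one_apply_ne hne, zero_add]
      show (if (j : ℕ) = i + 1 then (1 : F) else 0) = 0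
      rw [if_neg (by omega)]
  · intro j c hjc
    have h1 := congrArg (· ^ p ^ Nat.clog p l) hjc
    rw [← pow_mul, mul_comm, pow_mul, ← hord, pow_orderOf_eq_one, one_pow, hord, ← map_pow,
      ← map_one (scalar (Fin l) (α := F))] at h1
    have h2 : (c - 1) ^ p ^ Nat.clog p l = 0 := by
      rw [sub_pow_expChar_pow, one_pow, ← scalar_inj.1 h1, sub_self]
    exact sub_eq_zero.1 (pow_eq_zero_iff (pow_ne_zero _ hp.pos.ne') |>.1 h2)

variable {n : ℕ}

/-- The greatest common divisor of `n` and `q - 1` divides the Singer number. -/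
theorem gcd_dvd_qsum : Nat.gcd n (Nat.card F - 1) ∣ qsum F n :=
  ((qsum_mod (F := F) n).of_dvd (Nat.gcd_dvd_right _ _)).dvd_iff dvd_rfl |>.2 (Nat.gcd_dvd_left _ _)

theorem gcd_pos' : 0 < Nat.gcd n (Nat.card F - 1) := by
  have hq : 2 ≤ Nat.card F := Finite.one_lt_card
  exact Nat.gcd_pos_of_pos_right _ (by omega)

theorem pow_gcd_of_scalar {A : Matrix.SpecialLinearGroup (Fin n) F} {c : F} (hn : 1 ≤ n)
    (h : pmk A = 1) (hc : (A : Matrix (Fin n) (Fin n) F) = scalar (Fin n) c) :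
    c ^ Nat.gcd n (Nat.card F - 1) = 1 := by
  haveI : Nonempty (Fin n) := ⟨⟨0, hn⟩⟩
  obtain ⟨c', hc', e⟩ := scalar_of_pmk_eq_one h
  have : c' = c := scalar_inj.1 (e.symm.trans hc)
  subst this
  have hne : c' ≠ 0 := fun h0 => by
    rw [h0, zero_pow (by omega)] at hc'
    exact zero_ne_one hc'
  refine pow_gcd_eq_one.2 ⟨hc', ?_⟩
  rw [Nat.card_eq_fintype_card]
  exact FiniteField.pow_card_sub_one_eq_one c' hne

theorem exists_singer_element (p : ℕ) [Fact p.Prime] [CharP F p] (hn : 1 ≤ n) :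
    ∃ z : ProjectiveSpecialLinearGroup (Fin n) F,
      qsum F n / Nat.gcd n (Nat.card F - 1) ∣ orderOf z := by
  obtain ⟨M, hdet, hM⟩ := exists_singer (F := F) p n hn
  refine ⟨pmk (mkSL M hdet), ?_⟩
  have h1 : pmk (mkSL M hdet ^ orderOf (pmk (mkSL M hdet))) = 1 := by
    rw [pmk_pow, pow_orderOf_eq_one]
  obtain ⟨c, -, hc⟩ := scalar_of_pmk_eq_one h1
  have hc' := pow_gcd_of_scalar hn h1 hc
  rw [Matrix.SpecialLinearGroup.coe_pow, coe_mkSL] at hc
  have h2 : M ^ (orderOf (pmk (mkSL M hdet)) * Nat.gcd n (Nat.card F - 1)) = 1 := by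
    rw [pow_mul, hc, ← map_pow, hc', map_one]
  have h3 := orderOf_dvd_of_pow_eq_one h2
  rw [hM] at h3
  refine (Nat.div_dvd_iff_dvd_mul gcd_dvd_qsum gcd_pos').2 ?_
  rwa [mul_comm]

theorem dvd_primary_power {A : Matrix (Fin n) (Fin n) F} {f : F[X]} {e : ℕ} (hirr : Irreducible f)
    (hm : f.Monic) (hmin : minpoly F A = f ^ e) :
    ∃ c : F, A ^ (qsum F f.natDegree * p ^ Nat.clog p e) = scalar (Fin n) c := by
  have hp := (Fact.out : p.Prime)
  obtain ⟨c, hc⟩ := dvd_X_pow_sub_C hirr hm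
  refine ⟨c ^ p ^ Nat.clog p e, pow_scalar_of_dvd (P := f ^ e) (hmin ▸ minpoly.aeval F A) ?_⟩
  refine (pow_dvd_pow_of_dvd hc e).trans ?_
  rw [pow_mul, map_pow, ← sub_pow_expChar_pow]
  exact pow_dvd_pow _ (Nat.le_pow_clog hp.one_lt e)

theorem dvd_singer {A : Matrix.SpecialLinearGroup (Fin n) F} {f : F[X]} (hirr : Irreducible f)
    (hm : f.Monic) (hd : f.natDegree = n) (hmin : minpoly F (A : Matrix (Fin n) (Fin n) F) = f) :
    orderOf (pmk A) ∣ qsum F n / Nat.gcd n (Nat.card F - 1) := by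
  classical
  haveI := Fact.mk hirr
  haveI : Module.Finite F (AdjoinRoot f) := hm.finite_adjoinRoot
  haveI : Finite (AdjoinRoot f) := Module.finite_of_finite F
  have hchar : (A : Matrix (Fin n) (Fin n) F).charpoly = f := by
    refine (eq_of_monic_of_dvd_of_natDegree_le hm (Matrix.charpoly_monic _)
      (hmin ▸ Matrix.minpoly_dvd_charpoly _) ?_)
    rw [Matrix.charpoly_natDegree_eq_dim, Fintype.card_fin, hd]
  set x := AdjoinRoot.root f
  let pb := AdjoinRoot.powerBasis hirr.ne_zero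
  have hfr : Module.finrank F (AdjoinRoot f) = n := by
    rw [pb.finrank, AdjoinRoot.powerBasis_dim, hd]
  have hnorm : Algebra.norm F x = 1 := by
    have h1 := Algebra.PowerBasis.norm_gen_eq_coeff_zero_minpoly pb
    rw [AdjoinRoot.powerBasis_gen, AdjoinRoot.powerBasis_dim, AdjoinRoot.minpoly_root hirr.ne_zero,
      hm.leadingCoeff, inv_one, map_one, mul_one, hd] at h1
    rw [h1]
    have h2 := Matrix.det_eq_sign_charpoly_coeff (A : Matrix (Fin n) (Fin n) F)
    rw [A.2, hchar, Fintype.card_fin] at h2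
    exact h2.symm
  have hx : x ^ qsum F n = 1 := by
    have := FiniteField.algebraMap_norm_eq_pow_sum (K := F) (x := x)
    rw [hnorm, map_one, hfr] at this
    exact this.symm
  have hy : (x ^ (qsum F n / Nat.gcd n (Nat.card F - 1))) ^ Nat.card F
      = x ^ (qsum F n / Nat.gcd n (Nat.card F - 1)) := by
    obtain ⟨k, hk⟩ := Nat.gcd_dvd_right n (Nat.card F - 1)
    have h1 : 2 ≤ Nat.card F := Finite.one_lt_card
    nth_rewrite 2 [show Nat.card F = Nat.gcd n (Nat.card F - 1) * k + 1 by omega]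
    rw [pow_succ, ← pow_mul, ← mul_assoc, Nat.div_mul_cancel gcd_dvd_qsum, pow_mul x, hx, one_pow,
      one_mul]
  obtain ⟨c, hc⟩ := exists_algebraMap hy
  refine orderOf_pmk_dvd (c := c) (pow_scalar_of_dvd (P := f) (hmin ▸ minpoly.aeval F _) ?_)
  rw [← AdjoinRoot.mk_eq_zero, map_sub, map_pow, AdjoinRoot.mk_X, AdjoinRoot.mk_C]
  exact sub_eq_zero.2 hc.symm

theorem absorbs_mixed {r : ℕ} (hr : r.Prime) (hrq : r ∣ Fintype.card F - 1) (hrn : ¬ r ∣ n)
    {d l : ℕ} (hd : 1 ≤ d) (hl : 1 ≤ l) (h : d + l = n) {g : ProjectiveSpecialLinearGroup (Fin n) F}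
    (hg : orderOf g ∣ qsum F d * p ^ Nat.clog p l) : Absorbs r g := by
  have hp := (Fact.out : p.Prime)
  obtain ⟨M, hMdet, hM⟩ := exists_singer (F := F) p d hd
  obtain ⟨J, hJdet, hJ, hJs⟩ := exists_jordan_block (F := F) (p := p) l hl
  obtain ⟨B, hB, hcomm⟩ := exists_torus (F := F) hr hrq hrn hd hl h
  obtain ⟨Z, hZ⟩ : ∃ Z : Matrix.SpecialLinearGroup (Fin n) F,
      (Z : Matrix (Fin n) (Fin n) F) = blk h M J :=
    ⟨mkSL (blk h M J) (by rw [det_blk, hMdet, hJdet, one_mul]), rfl⟩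
  refine absorbs_of_commute hr (hg.trans ?_) (hcomm Z M J hZ) hB
  have h1 : pmk (Z ^ orderOf (pmk Z)) = 1 := by rw [pmk_pow, pow_orderOf_eq_one]
  obtain ⟨c, -, hc⟩ := scalar_of_pmk_eq_one h1
  rw [Matrix.SpecialLinearGroup.coe_pow, hZ, blk_pow, scalar_eq_blk h c] at hc
  obtain ⟨hc1, hc2⟩ := blk_inj h hc
  have hc0 := hJs _ _ hc2
  rw [hc0, map_one] at hc1 hc2
  obtain ⟨a, -, hF⟩ := FiniteField.card F p
  have hco : (qsum F d).Coprime (p ^ Nat.clog p l) :=
    (coprime_qsum_p hp (a := a) (by have := hF; exact a.2) hF hd).pow_right _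
  exact hco.mul_dvd_of_dvd_of_dvd (hM ▸ orderOf_dvd_of_pow_eq_one hc1)
    (hJ ▸ orderOf_dvd_of_pow_eq_one hc2)

theorem linear_types {r : ℕ} (hr : r.Prime) (hrq : r ∣ Fintype.card F - 1) (hrn : ¬ r ∣ n)
    (hn : 2 ≤ n) (g : ProjectiveSpecialLinearGroup (Fin n) F) :
    Absorbs r g ∨ orderOf g ∣ qsum F n / Nat.gcd n (Nat.card F - 1) ∨
      orderOf g ∣ p ^ Nat.clog p n := by
  obtain ⟨A, rfl⟩ := QuotientGroup.mk_surjective g
  rcases decomp_or_primary (A : Matrix (Fin n) (Fin n) F) (by omega) with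
    ⟨U, W, hc, hU0, hW0, hU, hW⟩ | ⟨f, e, hirr, hm, he, hdeg, hmin⟩
  · obtain ⟨B, hcomm, hB⟩ := exists_commuting_of_decomp hr hrq hrn A hc hU0 hW0 hU hW
    exact Or.inl (absorbs_of_commute hr dvd_rfl hcomm hB)
  obtain ⟨d, hd⟩ : ∃ d, d = f.natDegree := ⟨_, rfl⟩
  have hd1 : 1 ≤ d := hd ▸ hirr.natDegree_pos
  rw [← hd] at hdeg
  obtain ⟨c, hc⟩ := dvd_primary_power (p := p) hirr hm hmin
  rw [← hd] at hc
  have ho : orderOf (pmk A) ∣ qsum F d * p ^ Nat.clog p e := orderOf_pmk_dvd hc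
  rcases eq_or_lt_of_le hd1 with h1 | h1
  · right; right
    rw [← h1] at ho hdeg
    rw [show qsum F 1 = 1 by simp [qsum], one_mul] at ho
    exact ho.trans (clog_dvd_clog (by omega))
  have hdn : d ≤ n := le_trans (Nat.le_mul_of_pos_left d he) hdeg
  rcases eq_or_lt_of_le hdn with h2 | h2
  · right; left
    have he1 : e = 1 := by
      subst h2
      exact le_antisymm (Nat.le_of_mul_le_mul_right (by simpa using hdeg) (by omega)) he
    rw [he1, pow_one] at hmin
    exact dvd_singer hirr hm (hd ▸ h2) hmin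
  · left
    refine absorbs_mixed (p := p) hr hrq hrn (d := d) (l := n - d) (by omega) (by omega) (by omega)
      (ho.trans (mul_dvd_mul_left _ (clog_dvd_clog ?_)))
    rcases eq_or_lt_of_le he with he1 | he1
    · omega
    · have : d + e ≤ e * d := by nlinarith
      omega

theorem absorbs_regular_unipotent {r : ℕ} (hr : r.Prime) (hrq : r ∣ Fintype.card F - 1)
    (hrn : ¬ r ∣ n) (hn : 2 ≤ n) (hj : ¬ ∃ j : ℕ, n - 1 = p ^ j)
    {g : ProjectiveSpecialLinearGroup (Fin n) F} (hg : orderOf g ∣ p ^ Nat.clog p n) :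
    Absorbs r g := by
  have hp := (Fact.out : p.Prime)
  refine absorbs_mixed (p := p) hr hrq hrn (d := 1) (l := n - 1) le_rfl (by omega) (by omega)
    (hg.trans ?_)
  rw [show qsum F 1 = 1 by simp [qsum], one_mul]
  refine Nat.pow_dvd_pow p (Nat.clog_le_of_le_pow ?_)
  have h1 := Nat.le_pow_clog hp.one_lt (n - 1)
  have h2 : n - 1 ≠ p ^ Nat.clog p (n - 1) := fun h => hj ⟨_, h⟩
  omega

theorem exists_regular_unipotent (hn : 1 ≤ n) :
    ∃ u : ProjectiveSpecialLinearGroup (Fin n) F, p ^ Nat.clog p n ∣ orderOf u := by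
  obtain ⟨J, hJdet, hJ, hJs⟩ := exists_jordan_block (F := F) (p := p) n hn
  refine ⟨pmk (mkSL J hJdet), ?_⟩
  have h1 : pmk (mkSL J hJdet ^ orderOf (pmk (mkSL J hJdet))) = 1 := by
    rw [pmk_pow, pow_orderOf_eq_one]
  obtain ⟨c, -, hc⟩ := scalar_of_pmk_eq_one h1
  rw [Matrix.SpecialLinearGroup.coe_pow, coe_mkSL] at hc
  have hc0 := hJs _ _ hc
  rw [hc0, map_one] at hc
  exact hJ ▸ orderOf_dvd_of_pow_eq_one hc

/-- The main statement. -/
theorem cube_absorbs {r m : ℕ} (hr : r.Prime) (hrq : r ∣ Fintype.card F - 1) (hrn : ¬ r ∣ n)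
    (hn : 2 ≤ n) :
    Set.range (orderOf : ProjectiveSpecialLinearGroup (Fin n) F × ProjectiveSpecialLinearGroup (Fin n) F × ProjectiveSpecialLinearGroup (Fin n) F × Multiplicative (Fin m → ZMod r) → ℕ) =
      Set.range (orderOf : ProjectiveSpecialLinearGroup (Fin n) F × ProjectiveSpecialLinearGroup (Fin n) F × ProjectiveSpecialLinearGroup (Fin n) F → ℕ) ∧
    ((¬ ∃ j : ℕ, n - 1 = p ^ j) →
      Set.range (orderOf : ProjectiveSpecialLinearGroup (Fin n) F × ProjectiveSpecialLinearGroup (Fin n) F × Multiplicative (Fin m → ZMod r) → ℕ) =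
        Set.range (orderOf : ProjectiveSpecialLinearGroup (Fin n) F × ProjectiveSpecialLinearGroup (Fin n) F → ℕ)) := by
  haveI : Finite (ProjectiveSpecialLinearGroup (Fin n) F) := Quotient.finite _
  obtain ⟨z, hz⟩ := exists_singer_element (F := F) p (n := n) (by omega)
  obtain ⟨u, hu⟩ := exists_regular_unipotent (F := F) (p := p) (n := n) (by omega)
  obtain ⟨z', -, hz'⟩ := exists_pow_orderOf z hz
  obtain ⟨u', -, hu'⟩ := exists_pow_orderOf u hu
  obtain ⟨B, hB, -⟩ := exists_torus (F := F) hr hrq hrn (k := 1) (l := n - 1) le_rfl (by omega)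
    (by omega : 1 + (n - 1) = n)
  refine ⟨range_three hr z' u' (pmk B) hz' hu' hB (linear_types hr hrq hrn hn), fun hj =>
    range_two hr z' (pmk B) hz' hB fun g => ?_⟩
  rcases linear_types (p := p) hr hrq hrn hn g with h | h | h
  · exact Or.inl h
  · exact Or.inr h
  · exact Or.inl (absorbs_regular_unipotent hr hrq hrn hn hj h)

end CfsgLib.Spectrum.Cube
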