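import Cfsg.Agent.Spectrum.TwoPrimes

/-!
A simple chief factor collecting primes without joint element orders.
-/

set_option autoImplicit false

namespace CfsgLib.ChiefPrime

open Subgroup

variable {G : Type*} [Group G] [Finite G]

theorem exists_pq {p q : ℕ} (hp : p.Prime) (hq : q.Prime) (N : Subgroup G) [N.Normal]
    (hpN : p ∣ Nat.card N) (hqN : ¬ q ∣ Nat.card N) (hqG : q ∣ Nat.card G)
    (hmod : ∀ k : ℕ, 1 ≤ k → p ^ k ∣ Nat.card G → p ^ k % q ≠ 1) :
    ∃ g : G, orderOf g = p * q := by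
  classical
  haveI := Fact.mk hp
  haveI := Fact.mk hq
  have hpq : p ≠ q := fun h => hqN (h ▸ hpN)
  obtain ⟨P⟩ : Nonempty (Sylow p N) := inferInstance
  set P' := (P : Subgroup N).map N.subtype with hP'
  have hsup := Sylow.normalizer_sup_eq_top (N := N) P
  have hdvd : q ∣ Nat.card (normalizer (P' : Set G)) := by
    have h1 := N.relIndex_dvd_card (normalizer (P' : Set G))
    rw [← relIndex_sup_right, show normalizer (P' : Set G) ⊔ N = ⊤ from hsup, relIndex_top_right] at h1
    refine dvd_trans ?_ h1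
    rcases hq.dvd_mul.1 ((N.card_mul_index).symm ▸ hqG) with h | h
    · exact absurd h hqN
    · exact h
  obtain ⟨y, hy⟩ := exists_prime_orderOf_dvd_card' q hdvd
  obtain ⟨k, hk⟩ := P.2.exists_card_eq
  have hk1 : 1 ≤ k := by
    rcases Nat.eq_zero_or_pos k with h | h
    · have h1 := P.not_dvd_index
      have h2 := (P : Subgroup N).card_mul_index
      rw [hk, h, pow_zero, one_mul] at h2
      exact absurd (h2 ▸ hpN) h1
    · exact h
  have hkG : p ^ k ∣ Nat.card G := hk ▸ (card_subgroup_dvd_card _).trans (card_subgroup_dvd_card N)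
  have hP'card : Nat.card P' = p ^ k := by
    rw [hP', ← hk]
    exact Nat.card_congr ((P : Subgroup N).equivMapOfInjective _ N.subtype_injective).toEquiv.symm
  haveI : Fintype P' := Fintype.ofFinite _
  have hy' : (y : G) ∈ normalizer (P' : Set G) := y.2
  let σ : Equiv.Perm P' :=
    { toFun := fun x => ⟨(y : G) * x * (y : G)⁻¹, (Subgroup.mem_normalizer_iff.1 hy' x).1 x.2⟩
      invFun := fun x => ⟨(y : G)⁻¹ * x * (y : G), by
        have := (Subgroup.mem_normalizer_iff.1 (inv_mem hy') x).1 x.2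
        simpa using this⟩
      left_inv := fun x => by ext; simp [mul_assoc]
      right_inv := fun x => by ext; simp [mul_assoc] }
  have hσn : ∀ j : ℕ, ∀ x : P', ((σ ^ j) x : G) = (y : G) ^ j * x * ((y : G) ^ j)⁻¹ := by
    intro j
    induction j with
    | zero => intro x; simp
    | succ j ih =>
      intro x
      rw [pow_succ', Equiv.Perm.mul_apply]
      show (y : G) * ((σ ^ j) x : G) * (y : G)⁻¹ = _
      rw [ih, pow_succ']; group
  have hyG : orderOf (y : G) = q := by rw [Subgroup.orderOf_coe]; exact hy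
  have hσ : σ ^ q ^ 1 = 1 := by
    refine Equiv.ext fun x => Subtype.ext ?_
    rw [pow_one, hσn, ← hyG, pow_orderOf_eq_one]; simp
  have hmodeq := Equiv.Perm.card_compl_support_modEq hσ
  rw [← Nat.card_eq_fintype_card, hP'card] at hmodeq
  have hone : (1 : P') ∈ σ.supportᶜ := by
    rw [Finset.mem_compl, Equiv.Perm.mem_support, not_not]
    ext; simp [σ]
  have hne : σ.supportᶜ ≠ {1} := by
    intro h
    rw [h, Finset.card_singleton] at hmodeq
    exact hmod k hk1 hkG (by rw [← hmodeq, Nat.mod_eq_of_lt hq.one_lt])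
  obtain ⟨x, hx, hx1⟩ : ∃ x ∈ σ.supportᶜ, x ≠ 1 := by
    by_contra hc
    push Not at hc
    exact hne (Finset.eq_singleton_iff_unique_mem.2 ⟨hone, hc⟩)
  rw [Finset.mem_compl, Equiv.Perm.mem_support, not_not] at hx
  have hcomm : Commute (x : G) (y : G) := by
    have := congrArg Subtype.val hx
    show (x : G) * y = y * x
    calc (x : G) * y = ((y : G) * x * (y : G)⁻¹) * y := by rw [show (y : G) * x * (y : G)⁻¹ = x from this]
      _ = y * x := by group
  obtain ⟨j, hj, hox⟩ := (Nat.dvd_prime_pow hp).1 (hP'card ▸ orderOf_dvd_natCard x)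
  have hj0 : j ≠ 0 := fun h => hx1 (orderOf_eq_one_iff.1 (by rw [hox, h, pow_zero]))
  have hxG : orderOf ((x : G) ^ p ^ (j - 1)) = p := by
    rw [orderOf_pow' _ (pow_ne_zero _ hp.ne_zero), Subgroup.orderOf_coe, hox,
      Nat.gcd_eq_right (pow_dvd_pow p (Nat.sub_le j 1)), Nat.pow_div (Nat.sub_le j 1) hp.pos,
      show j - (j - 1) = 1 by omega, pow_one]
  refine ⟨(x : G) ^ p ^ (j - 1) * y, ?_⟩
  rw [(hcomm.pow_left _).orderOf_mul_eq_mul_orderOf_of_coprime
    (by rw [hxG, hyG]; exact (Nat.coprime_primes hp hq).2 hpq), hxG, hyG]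

theorem simple_of_minimal {Q : Type*} [Group Q] [Finite Q] {p : ℕ} [hp : Fact p.Prime]
    (M : Subgroup Q) [M.Normal] (hmin : ∀ K : Subgroup Q, K.Normal → K ≤ M → K ≠ ⊥ → K = M)
    (hpM : p ∣ Nat.card M) (hp2 : ¬ p ^ 2 ∣ Nat.card M) : IsSimpleGroup M := by
  classical
  haveI : Nontrivial M := by
    rw [← Finite.one_lt_card_iff_nontrivial]
    exact lt_of_lt_of_le hp.out.one_lt (Nat.le_of_dvd Nat.card_pos hpM)
  -- normal subgroups of order divisible by `p` contain all elements of order `p`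
  have hbig : ∀ K : Subgroup M, K.Normal → p ∣ Nat.card K → K = ⊤ := by
    intro K hK hpK
    have hidx : ¬ p ∣ K.index := by
      intro h
      refine hp2 ?_
      rw [pow_two, ← K.card_mul_index]
      exact Nat.mul_dvd_mul hpK h
    set T : Subgroup Q := Subgroup.closure {x | x ∈ M ∧ orderOf x = p} with hT
    have hTn : T.Normal := by
      refine Subgroup.normalizer_eq_top_iff.1 (top_le_iff.1 fun g _ => ?_)
      rw [Subgroup.mem_normalizer_iff]
      have key : ∀ g : Q, ∀ x ∈ T, g * x * g⁻¹ ∈ T := by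
        intro g x hx
        induction hx using Subgroup.closure_induction with
        | mem x hx =>
          refine Subgroup.subset_closure ⟨‹M.Normal›.conj_mem x hx.1 g, ?_⟩
          rw [← hx.2]
          exact MulEquiv.orderOf_eq (MulAut.conj g) x
        | one => simp
        | mul a b _ _ ha hb =>
          rw [show g * (a * b) * g⁻¹ = (g * a * g⁻¹) * (g * b * g⁻¹) by group]
          exact mul_mem ha hb
        | inv a _ ha =>
          rw [show g * a⁻¹ * g⁻¹ = (g * a * g⁻¹)⁻¹ by group]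
          exact inv_mem ha
      intro x
      refine ⟨key g x, fun h => ?_⟩
      simpa [mul_assoc] using key g⁻¹ _ h
    have hTM : T ≤ M := (Subgroup.closure_le _).2 fun x hx => hx.1
    obtain ⟨x, hx⟩ := exists_prime_orderOf_dvd_card' p hpM
    have hTne : T ≠ ⊥ := by
      intro h
      have : (x : Q) ∈ T := Subgroup.subset_closure ⟨x.2, by rw [Subgroup.orderOf_coe]; exact hx⟩
      rw [h, Subgroup.mem_bot] at this
      rw [← Subgroup.orderOf_coe, this, orderOf_one] at hx
      exact hp.out.one_lt.ne hx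
    have hTeq := hmin T hTn hTM hTne
    have hle : T ≤ K.map M.subtype := by
      refine (Subgroup.closure_le _).2 fun z hz => ?_
      refine ⟨⟨z, hz.1⟩, ?_, rfl⟩
      have hz' : orderOf (⟨z, hz.1⟩ : M) = p := (Subgroup.orderOf_mk z hz.1).trans hz.2
      rw [SetLike.mem_coe, ← QuotientGroup.eq_one_iff, ← orderOf_eq_one_iff]
      have h1 : orderOf ((⟨z, hz.1⟩ : M) : M ⧸ K) ∣ p :=
        (orderOf_map_dvd (QuotientGroup.mk' K) (⟨z, hz.1⟩ : M)).trans (dvd_of_eq hz')
      rcases (Nat.dvd_prime hp.out).1 h1 with h | h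
      · exact h
      · exact absurd ((dvd_of_eq h.symm).trans (orderOf_dvd_natCard ((⟨z, hz.1⟩ : M) : M ⧸ K))) hidx
    rw [eq_top_iff]
    intro z _
    obtain ⟨w, hw, he⟩ := hle (hTeq.symm ▸ z.2 : (z : Q) ∈ T)
    rwa [Subtype.ext he.symm]
  let S := {K : Subgroup M | K.Normal ∧ ¬ p ∣ Nat.card K}
  obtain ⟨L, hL⟩ : ∃ L, Maximal (· ∈ S) L := (Set.toFinite S).exists_maximal
    ⟨⊥, inferInstance, by simp [hp.out.ne_one]⟩
  haveI := hL.1.1
  have hLmax : ∀ K ∈ S, K ≤ L := by
    intro K hK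
    haveI := hK.1
    have hmem : K ⊔ L ∈ S := by
      refine ⟨inferInstance, fun h => ?_⟩
      have h1 := Subgroup.relIndex_dvd_card L K
      rw [← relIndex_sup_right] at h1
      have h2 := Subgroup.relIndex_mul_relIndex (⊥ : Subgroup M) L (K ⊔ L) bot_le le_sup_right
      rw [relIndex_bot_left, relIndex_bot_left] at h2
      rw [← h2] at h
      rcases hp.out.dvd_mul.1 h with h | h
      · exact hL.1.2 h
      · exact hK.2 (h.trans h1)
    exact le_sup_left.trans (hL.2 hmem le_sup_right)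
  have hLn : (L.map M.subtype).Normal := by
    constructor
    rintro _ ⟨x, hx, rfl⟩ g
    refine ⟨MulAut.conjNormal g x, ?_, by simp⟩
    have hmem : L.map (MulAut.conjNormal g : MulAut M).toMonoidHom ∈ S := by
      refine ⟨(inferInstance : L.Normal).map _ (MulEquiv.surjective _), ?_⟩
      rw [Nat.card_congr (L.equivMapOfInjective _ (MulEquiv.injective _)).toEquiv.symm]
      exact hL.1.2
    exact hLmax _ hmem ⟨x, hx, rfl⟩
  have hLbot : L = ⊥ := by
    by_contra hne
    have hne' : L.map M.subtype ≠ ⊥ := by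
      rwa [Ne, Subgroup.map_eq_bot_iff_of_injective _ M.subtype_injective]
    have h := hmin _ hLn (Subgroup.map_subtype_le L) hne'
    have hc := Nat.card_congr (L.equivMapOfInjective _ M.subtype_injective).toEquiv
    rw [h] at hc
    exact hL.1.2 (hc ▸ hpM)
  exact ⟨fun K hK => by
    by_cases h : p ∣ Nat.card K
    · exact Or.inr (hbig K hK h)
    · exact Or.inl (le_bot_iff.1 (hLbot ▸ hLmax K ⟨hK, h⟩))⟩

theorem chief {p q : ℕ} (hp : p.Prime) (hq : q.Prime) (hne : p ≠ q) (hpG : p ∣ Nat.card G)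
    (hp2 : ¬ p ^ 2 ∣ Nat.card G) (hqG : q ∣ Nat.card G)
    (hno : ∀ g : G, orderOf g ≠ p * q)
    (h1 : ∀ k : ℕ, 1 ≤ k → p ^ k ∣ Nat.card G → p ^ k % q ≠ 1)
    (h2 : ∀ k : ℕ, 1 ≤ k → q ^ k ∣ Nat.card G → q ^ k % p ≠ 1) :
    ∃ (N H : Subgroup G) (_ : N.Normal), H.Normal ∧ N < H ∧ IsSimpleGroup (↥H ⧸ N.subgroupOf H) ∧
      ¬ IsMulCommutative (↥H ⧸ N.subgroupOf H) ∧ p ∣ Nat.card (↥H ⧸ N.subgroupOf H) ∧
      ∀ r : ℕ, r.Prime → r ≠ p → r ∣ Nat.card G → (∀ g : G, orderOf g ≠ p * r) →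
        (∀ k : ℕ, 1 ≤ k → p ^ k ∣ Nat.card G → p ^ k % r ≠ 1) →
        (∀ k : ℕ, 1 ≤ k → r ^ k ∣ Nat.card G → r ^ k % p ≠ 1) →
        r ∣ Nat.card (↥H ⧸ N.subgroupOf H) := by
  classical
  haveI := Fact.mk hp
  let S := {K : Subgroup G | K.Normal ∧ ¬ p ∣ Nat.card K}
  obtain ⟨N, hN⟩ : ∃ N, Maximal (· ∈ S) N := (Set.toFinite S).exists_maximal
    ⟨⊥, inferInstance, by simp [hp.ne_one]⟩
  haveI := hN.1.1
  let S2 := {K : Subgroup G | K.Normal ∧ N < K}
  have hNtop : N < ⊤ := lt_top_iff_ne_top.2 fun h => hN.1.2 (by rw [h, Subgroup.card_top]; exact hpG)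
  obtain ⟨H, hH⟩ : ∃ H, Minimal (· ∈ S2) H := (Set.toFinite S2).exists_minimal
    ⟨⊤, inferInstance, hNtop⟩
  haveI := hH.1.1
  have hpH : p ∣ Nat.card H := by
    by_contra h
    exact hH.1.2.not_ge (hN.2 ⟨hH.1.1, h⟩ hH.1.2.le)
  set M := H.map (QuotientGroup.mk' N) with hM
  haveI : M.Normal := hH.1.1.map _ (QuotientGroup.mk'_surjective N)
  have hker : ((QuotientGroup.mk' N).comp H.subtype).ker = N.subgroupOf H := by
    ext x
    simp [MonoidHom.mem_ker, Subgroup.mem_subgroupOf, QuotientGroup.eq_one_iff]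
  have hrange : ((QuotientGroup.mk' N).comp H.subtype).range = M := by
    rw [hM, MonoidHom.range_comp, Subgroup.range_subtype]
  have e : (↥H ⧸ N.subgroupOf H) ≃* M :=
    ((QuotientGroup.quotientMulEquivOfEq hker.symm).trans
      (QuotientGroup.quotientKerEquivRange _)).trans (MulEquiv.subgroupCongr hrange)
  have hcard : ∀ {r : ℕ}, r.Prime → r ∣ Nat.card H → ¬ r ∣ Nat.card N →
      r ∣ Nat.card (↥H ⧸ N.subgroupOf H) := by
    intro r hr hrH hrN
    have := Subgroup.card_eq_card_quotient_mul_card_subgroup (N.subgroupOf H)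
    rw [this] at hrH
    rcases hr.dvd_mul.1 hrH with h | h
    · exact h
    · rw [Nat.card_congr (Subgroup.subgroupOfEquivOfLe hH.1.2.le).toEquiv] at h
      exact absurd h hrN
  have hpM : p ∣ Nat.card M := Nat.card_congr e.toEquiv ▸ hcard hp hpH hN.1.2
  have hall : ∀ r : ℕ, r.Prime → r ≠ p → r ∣ Nat.card G → (∀ g : G, orderOf g ≠ p * r) →
      (∀ k : ℕ, 1 ≤ k → p ^ k ∣ Nat.card G → p ^ k % r ≠ 1) →
      (∀ k : ℕ, 1 ≤ k → r ^ k ∣ Nat.card G → r ^ k % p ≠ 1) →
      r ∣ Nat.card (↥H ⧸ N.subgroupOf H) := by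
    intro r hr hrp hrG hno' a1 a2
    refine hcard hr ?_ ?_
    · by_contra h
      obtain ⟨g, hg⟩ := exists_pq hp hr H hpH h hrG a1
      exact hno' g hg
    · intro h
      obtain ⟨g, hg⟩ := exists_pq hr hp N h hN.1.2 hpG a2
      exact hno' g (by rw [hg, mul_comm])
  have hs : IsSimpleGroup M := by
    refine simple_of_minimal M (fun K hK hKM hKne => ?_) hpM fun h => hp2 ?_
    · have hc : K.comap (QuotientGroup.mk' N) ∈ S2 := by
        refine ⟨hK.comap _, lt_of_le_of_ne ?_ fun he => hKne ?_⟩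
        · intro x hx
          rw [Subgroup.mem_comap, QuotientGroup.mk'_apply, (QuotientGroup.eq_one_iff x).2 hx]
          exact one_mem _
        · rw [← Subgroup.map_comap_eq_self_of_surjective (QuotientGroup.mk'_surjective N) K, ← he,
            QuotientGroup.map_mk'_self]
      have hle : K.comap (QuotientGroup.mk' N) ≤ H := by
        intro x hx
        obtain ⟨z, hz, hzx⟩ := hKM hx
        have : z⁻¹ * x ∈ N := QuotientGroup.eq.1 hzx
        have := mul_mem hz (hH.1.2.le this)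
        rwa [mul_inv_cancel_left] at this
      exact le_antisymm hKM
        (Subgroup.map_le_iff_le_comap.2 (hH.2 hc hle))
    · exact h.trans ((card_subgroup_dvd_card M).trans (N.index_eq_card ▸ N.index_dvd_card))
  haveI := hs
  haveI : IsSimpleGroup (↥H ⧸ N.subgroupOf H) := e.isSimpleGroup
  refine ⟨N, H, inferInstance, hH.1.1, hH.1.2, inferInstance, fun hc => ?_,
    hcard hp hpH hN.1.2, hall⟩
  haveI := hc
  letI : CommGroup (↥H ⧸ N.subgroupOf H) :=
    { (inferInstance : Group (↥H ⧸ N.subgroupOf H)) with mul_comm := fun a b => hc.is_comm.comm a b }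
  have hpr := IsSimpleGroup.prime_card (α := ↥H ⧸ N.subgroupOf H)
  rcases (Nat.dvd_prime hpr).1 (hcard hp hpH hN.1.2) with h | h
  · exact hp.ne_one h
  rcases (Nat.dvd_prime hpr).1 (hall q hq hne.symm hqG hno h1 h2) with h' | h'
  · exact hq.ne_one h'
  · exact hne (h.trans h'.symm)

theorem not_orderOf_mul {n p q : ℕ} (hp : p.Prime) (hq : q.Prime) (hne : p ≠ q) (h : n < p + q)
    (σ : Equiv.Perm (Fin n)) : orderOf σ ≠ p * q := by
  classical
  intro ho
  have hmem : ∀ r : ℕ, r.Prime → r ∣ p * q → ∃ a ∈ σ.cycleType, r ∣ a := by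
    intro r hr hd
    rw [← ho, ← Equiv.Perm.lcm_cycleType] at hd
    by_contra hc
    push Not at hc
    have : σ.cycleType.lcm ∣ (σ.cycleType.prod) :=
      Multiset.lcm_dvd.2 fun b hb => Multiset.dvd_prod hb
    obtain ⟨a, ha, hra⟩ := Prime.exists_mem_multiset_dvd hr.prime (hd.trans this)
    exact hc a ha hra
  obtain ⟨a, ha, hpa⟩ := hmem p hp (dvd_mul_right p q)
  obtain ⟨b, hb, hqb⟩ := hmem q hq (dvd_mul_left q p)
  have hsum : σ.cycleType.sum ≤ n := by simpa using σ.sum_cycleType_le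
  have h2a := Equiv.Perm.two_le_of_mem_cycleType ha
  have h2b := Equiv.Perm.two_le_of_mem_cycleType hb
  by_cases hab : a = b
  · subst hab
    have h1 : p * q ≤ a := Nat.le_of_dvd (by omega)
      (((Nat.coprime_primes hp hq).2 hne).mul_dvd_of_dvd_of_dvd hpa hqb)
    have h2 := Multiset.le_sum_of_mem ha
    nlinarith [hp.two_le, hq.two_le]
  · have hb' : b ∈ σ.cycleType.erase a := (Multiset.mem_erase_of_ne (Ne.symm hab)).2 hb
    have h1 := Multiset.le_sum_of_mem hb'
    have h2 : σ.cycleType.sum = a + (σ.cycleType.erase a).sum := by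
      rw [← Multiset.sum_cons, Multiset.cons_erase ha]
    have := Nat.le_of_dvd (by omega) hpa
    have := Nat.le_of_dvd (by omega) hqb
    omega

theorem sq_not_dvd_factorial {p : ℕ} (hp : p.Prime) : ∀ {n : ℕ}, n < 2 * p → ¬ p ^ 2 ∣ n.factorial := by
  intro n
  induction n with
  | zero => intro _ h; simp at h; exact hp.ne_one h
  | succ n ih =>
    intro hn h
    rw [Nat.factorial_succ] at h
    by_cases hd : p ∣ n + 1
    · obtain ⟨c, hc⟩ := hd
      have hc1 : c = 1 := by
        rcases Nat.lt_or_ge c 2 with h2 | h2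
        · rcases Nat.eq_zero_or_pos c with h0 | h0
          · subst h0; simp at hc
          · omega
        · have := Nat.mul_le_mul_left p h2; omega
      subst hc1
      rw [hc, mul_one, pow_two] at h
      exact absurd (hp.dvd_factorial.1 ((Nat.mul_dvd_mul_iff_left hp.pos).1 h)) (by omega)
    · exact ih (by omega)
        ((Nat.Coprime.pow_left 2 ((hp.coprime_iff_not_dvd).2 hd)).dvd_of_dvd_mul_left h)

theorem alt_facts {n : ℕ} (hn : 3 ≤ n) {G : Type*} [Group G] [Finite G]
    (hcard : Nat.card G = Nat.card (alternatingGroup (Fin n)))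
    (hspec : Set.range (orderOf : G → ℕ) = Set.range (orderOf : (alternatingGroup (Fin n)) → ℕ)) :
    (∀ p : ℕ, p.Prime → 3 ≤ p → p ≤ n → p ∣ Nat.card G) ∧
    (∀ d : ℕ, d ∣ Nat.card G → d ∣ n.factorial) ∧
    (∀ p q : ℕ, p.Prime → q.Prime → p ≠ q → n < p + q → ∀ g : G, orderOf g ≠ p * q) := by
  haveI : Nontrivial (Fin n) := Fin.nontrivial_iff_two_le.2 (by omega)
  have h2 : 2 * Nat.card (alternatingGroup (Fin n)) = n.factorial := by
    have := two_mul_card_alternatingGroup (α := Fin n)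
    simpa [Nat.card_eq_fintype_card, Fintype.card_perm] using this
  refine ⟨fun p hp h3 hpn => ?_, fun d hd => ?_, fun p q hp hq hne hlt g hg => ?_⟩
  · rw [hcard]
    have : p ∣ n.factorial := hp.dvd_factorial.2 hpn
    rw [← h2] at this
    exact ((Nat.coprime_primes hp Nat.prime_two).2 (by omega)).dvd_of_dvd_mul_left this
  · rw [hcard] at hd
    exact hd.trans (h2 ▸ dvd_mul_left _ _)
  · have : p * q ∈ Set.range (orderOf : (alternatingGroup (Fin n)) → ℕ) := hspec ▸ ⟨g, hg⟩
    obtain ⟨σ, hσ⟩ := this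
    exact not_orderOf_mul hp hq hne hlt (σ : Equiv.Perm (Fin n)) (by rw [Subgroup.orderOf_coe, hσ])

theorem mod_ne_one {p r : ℕ} (hp : p.Prime) (hr : r.Prime) (h2p : p ≠ 2) (h2r : r ≠ 2)
    (h : p < 2 * r) : p % r ≠ 1 := by
  intro he
  rcases Nat.lt_or_ge p r with hl | hl
  · rw [Nat.mod_eq_of_lt hl] at he; exact hp.ne_one he
  · rw [Nat.mod_eq_sub_mod hl, Nat.mod_eq_of_lt (by omega)] at he
    have h1 := hp.eq_two_or_odd
    have h3 := hr.eq_two_or_odd
    omega

theorem big_conds {n : ℕ} {G : Type*} [Group G] [Finite G]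
    (hdvd : ∀ d : ℕ, d ∣ Nat.card G → d ∣ n.factorial) {p r : ℕ} (hp : p.Prime) (hr : r.Prime)
    (hp2 : n < 2 * p) (hr2 : n < 2 * r) (hpn : p ≤ n) (h5 : 5 ≤ n) :
    ∀ k : ℕ, 1 ≤ k → p ^ k ∣ Nat.card G → p ^ k % r ≠ 1 := by
  intro k hk hd
  rcases Nat.lt_or_ge k 2 with h | h
  · rw [show k = 1 by omega, pow_one]
    exact mod_ne_one hp hr (by omega) (by omega) (by omega)
  · exact absurd ((pow_dvd_pow p h).trans (hdvd _ hd)) (sq_not_dvd_factorial hp hp2)

end CfsgLib.ChiefPrime
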