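import Mathlib

/-!
Element orders in direct powers: absorbing an elementary abelian factor.
-/

set_option autoImplicit false

namespace CfsgLib.Spectrum.Cube

theorem exists_pow_orderOf {L : Type*} [Group L] [Finite L] (z : L) {d : ℕ} (hd : d ∣ orderOf z) :
    ∃ h : L, (∀ x : L, Commute z x → Commute h x) ∧ orderOf h = d :=
  ⟨z ^ (orderOf z / d), fun x hx => hx.pow_left _,
    orderOf_pow_orderOf_div (orderOf_pos z).ne' hd⟩

/-- The property that the prime `r` can be adjoined to the order of `g`. -/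
def Absorbs {L : Type*} [Group L] (r : ℕ) (g : L) : Prop :=
  ∃ h : L, orderOf h = Nat.lcm (orderOf g) r

theorem absorbs_of_commute {L : Type*} [Group L] [Finite L] {r : ℕ} (hr : r.Prime) {g z b : L}
    (hgz : orderOf g ∣ orderOf z) (hzb : Commute z b) (hb : orderOf b = r) : Absorbs r g := by
  by_cases hrg : r ∣ orderOf g
  · exact ⟨g, (Nat.lcm_eq_left hrg).symm⟩
  obtain ⟨h, hcomm, hh⟩ := exists_pow_orderOf z hgz
  have hco : (orderOf g).Coprime r := ((Nat.Prime.coprime_iff_not_dvd hr).2 hrg).symm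
  refine ⟨h * b, ?_⟩
  rw [(hcomm b hzb).orderOf_mul_eq_mul_orderOf_of_coprime (by rw [hh, hb]; exact hco), hh, hb,
    hco.lcm_eq_mul]

theorem orderOf_multiplicative_zmod_dvd {r m : ℕ} (e : Multiplicative (Fin m → ZMod r)) :
    orderOf e ∣ r := by
  refine orderOf_dvd_of_pow_eq_one ?_
  apply Multiplicative.toAdd.injective
  rw [toAdd_pow, toAdd_one]
  funext i
  show r • (Multiplicative.toAdd e i) = 0
  rw [nsmul_eq_mul, ZMod.natCast_self, zero_mul]

theorem range_three {L : Type*} [Group L] [Finite L] {r m N P : ℕ} (hr : r.Prime) (z u b : L)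
    (hz : orderOf z = N) (hu : orderOf u = P) (hb : orderOf b = r)
    (h : ∀ g : L, Absorbs r g ∨ orderOf g ∣ N ∨ orderOf g ∣ P) :
    Set.range (orderOf : L × L × L × Multiplicative (Fin m → ZMod r) → ℕ) =
      Set.range (orderOf : L × L × L → ℕ) := by
  ext o
  constructor
  · rintro ⟨⟨g₁, g₂, g₃, e⟩, rfl⟩
    rcases (Nat.dvd_prime hr).1 (orderOf_multiplicative_zmod_dvd e) with he | he
    · refine ⟨(g₁, g₂, g₃), ?_⟩
      simp only [Prod.orderOf]
      rw [he, Nat.lcm_one_right]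
    suffices h' : ∃ a b c : L, Nat.lcm (orderOf a) (Nat.lcm (orderOf b) (orderOf c)) =
        Nat.lcm (orderOf g₁) (Nat.lcm (orderOf g₂) (Nat.lcm (orderOf g₃) r)) by
      obtain ⟨x, y, w, hxyw⟩ := h'
      refine ⟨(x, y, w), ?_⟩
      simp only [Prod.orderOf]
      rw [he, hxyw]
    have same : ∀ {M : ℕ} {w : L}, orderOf w = M → ∀ {x y : L}, orderOf x ∣ M → orderOf y ∣ M →
        ∃ k : L, orderOf k = Nat.lcm (orderOf x) (orderOf y) := by
      intro M w hw x y hx hy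
      obtain ⟨k, -, hk⟩ := exists_pow_orderOf w (d := Nat.lcm (orderOf x) (orderOf y))
        (hw ▸ Nat.lcm_dvd hx hy)
      exact ⟨k, hk⟩
    have absorb : ∀ x y w : L, Absorbs r w → ∃ a b c : L,
        Nat.lcm (orderOf a) (Nat.lcm (orderOf b) (orderOf c)) =
          Nat.lcm (orderOf x) (Nat.lcm (orderOf y) (Nat.lcm (orderOf w) r)) := by
      rintro x y w ⟨k, hk⟩
      exact ⟨x, y, k, by rw [hk]⟩
    have merge : ∀ x y w : L, (∃ k : L, orderOf k = Nat.lcm (orderOf x) (orderOf y)) → ∃ a b c : L,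
        Nat.lcm (orderOf a) (Nat.lcm (orderOf b) (orderOf c)) =
          Nat.lcm (orderOf x) (Nat.lcm (orderOf y) (Nat.lcm (orderOf w) r)) := by
      rintro x y w ⟨k, hk⟩
      exact ⟨k, w, b, by rw [hk, hb, Nat.lcm_assoc]⟩
    have perm12 : ∀ a c d : ℕ, Nat.lcm a (Nat.lcm c d) = Nat.lcm c (Nat.lcm a d) := fun a c d => by
      rw [← Nat.lcm_assoc, Nat.lcm_comm a c, Nat.lcm_assoc]
    rcases h g₃ with h₃ | h₃
    · exact absorb _ _ _ h₃
    rcases h g₂ with h₂ | h₂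
    · obtain ⟨a, b', c, e'⟩ := absorb g₁ g₃ g₂ h₂
      exact ⟨a, b', c, by rw [e', perm12 (orderOf g₃) (orderOf g₂) r]⟩
    rcases h g₁ with h₁ | h₁
    · obtain ⟨a, b', c, e'⟩ := absorb g₂ g₃ g₁ h₁
      exact ⟨a, b', c, by rw [e', perm12 (orderOf g₃) (orderOf g₁) r,
        perm12 (orderOf g₂) (orderOf g₁)]⟩
    rcases h₂ with h₂ | h₂ <;> rcases h₃ with h₃ | h₃
    case inl.inl =>
      obtain ⟨a, b', c, e'⟩ := merge g₂ g₃ g₁ (same hz h₂ h₃)
      exact ⟨a, b', c, by rw [e', perm12 (orderOf g₃) (orderOf g₁) r,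
        perm12 (orderOf g₂) (orderOf g₁)]⟩
    case inr.inr =>
      obtain ⟨a, b', c, e'⟩ := merge g₂ g₃ g₁ (same hu h₂ h₃)
      exact ⟨a, b', c, by rw [e', perm12 (orderOf g₃) (orderOf g₁) r,
        perm12 (orderOf g₂) (orderOf g₁)]⟩
    all_goals rcases h₁ with h₁ | h₁
    · exact merge g₁ g₂ g₃ (same hz h₁ h₂)
    · obtain ⟨a, b', c, e'⟩ := merge g₁ g₃ g₂ (same hu h₁ h₃)
      exact ⟨a, b', c, by rw [e', perm12 (orderOf g₃) (orderOf g₂) r]⟩
    · obtain ⟨a, b', c, e'⟩ := merge g₁ g₃ g₂ (same hz h₁ h₃)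
      exact ⟨a, b', c, by rw [e', perm12 (orderOf g₃) (orderOf g₂) r]⟩
    · exact merge g₁ g₂ g₃ (same hu h₁ h₂)
  · rintro ⟨⟨g₁, g₂, g₃⟩, rfl⟩
    refine ⟨(g₁, g₂, g₃, 1), ?_⟩
    simp [Prod.orderOf]

theorem range_two {L : Type*} [Group L] [Finite L] {r m N : ℕ} (hr : r.Prime) (z b : L)
    (hz : orderOf z = N) (hb : orderOf b = r) (h : ∀ g : L, Absorbs r g ∨ orderOf g ∣ N) :
    Set.range (orderOf : L × L × Multiplicative (Fin m → ZMod r) → ℕ) =
      Set.range (orderOf : L × L → ℕ) := by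
  ext o
  constructor
  · rintro ⟨⟨g₁, g₂, e⟩, rfl⟩
    rcases (Nat.dvd_prime hr).1 (orderOf_multiplicative_zmod_dvd e) with he | he
    · refine ⟨(g₁, g₂), ?_⟩
      simp only [Prod.orderOf]
      rw [he, Nat.lcm_one_right]
    suffices h' : ∃ a c : L, Nat.lcm (orderOf a) (orderOf c) =
        Nat.lcm (orderOf g₁) (Nat.lcm (orderOf g₂) r) by
      obtain ⟨x, y, hxy⟩ := h'
      refine ⟨(x, y), ?_⟩
      simp only [Prod.orderOf]
      rw [he, hxy]
    rcases h g₂ with ⟨k, hk⟩ | h₂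
    · exact ⟨g₁, k, by rw [hk]⟩
    rcases h g₁ with ⟨k, hk⟩ | h₁
    · exact ⟨g₂, k, by rw [hk, ← Nat.lcm_assoc, Nat.lcm_comm (orderOf g₂), Nat.lcm_assoc]⟩
    obtain ⟨k, -, hk⟩ := exists_pow_orderOf z (d := Nat.lcm (orderOf g₁) (orderOf g₂))
      (hz ▸ Nat.lcm_dvd h₁ h₂)
    exact ⟨k, b, by rw [hk, hb, Nat.lcm_assoc]⟩
  · rintro ⟨⟨g₁, g₂⟩, rfl⟩
    refine ⟨(g₁, g₂, 1), ?_⟩
    simp [Prod.orderOf]

end CfsgLib.Spectrum.Cube
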