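import Cfsg.Agent.Spectrum.CubeCore

/-!
Element orders in projective special linear groups: every element either has order to which a
given prime divisor of `q - 1` can be adjoined, or divides the Singer number, or is unipotent.
-/

set_option autoImplicit false
set_option linter.unusedSectionVars false
set_option linter.style.haveILetI false
set_option linter.deprecated false

namespace CfsgLib.Spectrum.Cube

open Polynomial Matrix

variable {F : Type*} [Field F] [Fintype F]

/-- The sum of the first `d` powers of the field size. -/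
noncomputable def qsum (F : Type*) (d : ℕ) : ℕ := ∑ i ∈ Finset.range d, Nat.card F ^ i

theorem qsum_mul (d : ℕ) : (Nat.card F - 1) * qsum F d = Nat.card F ^ d - 1 := by
  have h1 : 2 ≤ Nat.card F := Finite.one_lt_card
  rw [qsum, mul_comm, geom_sum_mul_of_one_le (by omega)]

theorem qsum_mod (d : ℕ) : qsum F d ≡ d [MOD Nat.card F - 1] := by
  have h1 : 2 ≤ Nat.card F := Finite.one_lt_card
  induction d with
  | zero => simp [qsum, Nat.ModEq.refl]
  | succ d ih =>
    rw [qsum, Finset.sum_range_succ]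
    refine ih.add ?_
    have h2 : Nat.card F ≡ 1 [MOD Nat.card F - 1] := by
      refine ((Nat.modEq_iff_dvd' (by omega)).2 dvd_rfl).symm
    simpa using h2.pow d

theorem qsum_pos {d : ℕ} (hd : 1 ≤ d) : 0 < qsum F d := by
  rw [qsum]
  exact Finset.sum_pos' (fun i _ => Nat.zero_le _) ⟨0, Finset.mem_range.2 hd, by simp⟩

theorem coprime_qsum_p {p a : ℕ} (hp : p.Prime) (ha : 1 ≤ a) (hF : Fintype.card F = p ^ a) {d : ℕ}
    (hd : 1 ≤ d) : (qsum F d).Coprime p := by
  refine ((Nat.Prime.coprime_iff_not_dvd hp).2 fun h => ?_).symm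
  obtain ⟨d, rfl⟩ : ∃ d', d = d' + 1 := ⟨d - 1, by omega⟩
  rw [qsum, Finset.sum_range_succ'] at h
  have h2 : p ∣ ∑ i ∈ Finset.range d, Nat.card F ^ (i + 1) := by
    refine Finset.dvd_sum fun i _ => Dvd.dvd.pow ?_ (Nat.succ_ne_zero i)
    rw [Nat.card_eq_fintype_card, hF]
    exact dvd_pow_self p (by omega)
  have h3 := (Nat.dvd_add_right h2).1 h
  rw [pow_zero] at h3
  exact hp.one_lt.ne' (Nat.dvd_one.1 h3)

/-- An element of a finite field extension fixed by the `q`-th power comes from the base. -/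
theorem exists_algebraMap {K : Type*} [Field K] [Algebra F K] [Finite K] {x : K}
    (hx : x ^ Nat.card F = x) : ∃ c : F, algebraMap F K c = x := by
  classical
  have h1 : 2 ≤ Nat.card F := Finite.one_lt_card
  have hne : (X ^ Nat.card F - X : K[X]) ≠ 0 := FiniteField.X_pow_card_sub_X_ne_zero K h1
  by_contra hcon
  push Not at hcon
  have hsub : insert x ((Finset.univ : Finset F).image (algebraMap F K)) ⊆
      (X ^ Nat.card F - X : K[X]).roots.toFinset := by
    intro y hy
    rw [Multiset.mem_toFinset, mem_roots hne, IsRoot, eval_sub, eval_pow, eval_X, sub_eq_zero]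
    rcases Finset.mem_insert.1 hy with rfl | hy
    · exact hx
    · obtain ⟨c, -, rfl⟩ := Finset.mem_image.1 hy
      rw [← map_pow, Nat.card_eq_fintype_card, FiniteField.pow_card]
  have hc := Finset.card_le_card hsub
  rw [Finset.card_insert_of_notMem (by
    intro hy
    obtain ⟨c, -, hc⟩ := Finset.mem_image.1 hy
    exact hcon c hc), Finset.card_image_of_injective _ (algebraMap F K).injective, Finset.card_univ]
    at hc
  have h2 := (Multiset.toFinset_card_le _).trans (card_roots' (X ^ Nat.card F - X : K[X]))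
  rw [FiniteField.X_pow_card_sub_X_natDegree_eq K h1] at h2
  rw [Nat.card_eq_fintype_card] at h2 hc
  omega

theorem dvd_X_pow_sub_C {f : F[X]} (hirr : Irreducible f) (hm : f.Monic) :
    ∃ c : F, f ∣ X ^ qsum F f.natDegree - C c := by
  haveI := Fact.mk hirr
  haveI : Module.Finite F (AdjoinRoot f) := hm.finite_adjoinRoot
  haveI : Finite (AdjoinRoot f) := Module.finite_of_finite F
  haveI := Fintype.ofFinite (AdjoinRoot f)
  have hcard : Fintype.card (AdjoinRoot f) = Nat.card F ^ f.natDegree := by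
    rw [← Nat.card_eq_fintype_card, Module.natCard_eq_pow_finrank (K := F),
      PowerBasis.finrank (AdjoinRoot.powerBasis hirr.ne_zero), AdjoinRoot.powerBasis_dim]
  set x := AdjoinRoot.root f
  have h1 : x ^ qsum F f.natDegree * (x ^ qsum F f.natDegree) ^ (Nat.card F - 1)
      = x ^ qsum F f.natDegree := by
    rw [← pow_mul, mul_comm (qsum F f.natDegree), qsum_mul, ← hcard]
    rcases eq_or_ne x 0 with hx | hx
    · rw [hx, zero_pow (qsum_pos hirr.natDegree_pos).ne', zero_mul]
    · rw [FiniteField.pow_card_sub_one_eq_one x hx, mul_one]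
  rw [← pow_succ', Nat.sub_add_cancel Nat.card_pos] at h1
  obtain ⟨c, hc⟩ := exists_algebraMap h1
  refine ⟨c, AdjoinRoot.mk_eq_zero.1 ?_⟩
  rw [map_sub, map_pow, AdjoinRoot.mk_X, AdjoinRoot.mk_C]
  exact sub_eq_zero.2 hc.symm

variable {n : ℕ}

/-- The image in the projective group. -/
abbrev pmk (A : Matrix.SpecialLinearGroup (Fin n) F) : ProjectiveSpecialLinearGroup (Fin n) F :=
  QuotientGroup.mk A

theorem pmk_pow (A : Matrix.SpecialLinearGroup (Fin n) F) (j : ℕ) : pmk (A ^ j) = pmk A ^ j := rfl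

/-- A matrix of determinant one as an element of the special linear group. -/
def mkSL (M : Matrix (Fin n) (Fin n) F) (h : M.det = 1) : Matrix.SpecialLinearGroup (Fin n) F := ⟨M, h⟩

theorem coe_mkSL (M : Matrix (Fin n) (Fin n) F) (h : M.det = 1) :
    (mkSL M h : Matrix (Fin n) (Fin n) F) = M := rfl

theorem pmk_eq_one_of {A : Matrix.SpecialLinearGroup (Fin n) F} {c : F}
    (h : (A : Matrix (Fin n) (Fin n) F) = scalar (Fin n) c) : pmk A = 1 := by
  rw [QuotientGroup.eq_one_iff, Matrix.SpecialLinearGroup.mem_center_iff]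
  refine ⟨c, ?_, h.symm⟩
  have := A.2
  rw [h, scalar_apply, det_diagonal] at this
  simpa using this

theorem scalar_of_pmk_eq_one {A : Matrix.SpecialLinearGroup (Fin n) F} (h : pmk A = 1) :
    ∃ c : F, c ^ n = 1 ∧ (A : Matrix (Fin n) (Fin n) F) = scalar (Fin n) c := by
  rw [QuotientGroup.eq_one_iff, Matrix.SpecialLinearGroup.mem_center_iff] at h
  obtain ⟨c, h1, h2⟩ := h
  exact ⟨c, by simpa using h1, h2.symm⟩

theorem orderOf_pmk_dvd {A : Matrix.SpecialLinearGroup (Fin n) F} {k : ℕ} {c : F}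
    (h : (A : Matrix (Fin n) (Fin n) F) ^ k = scalar (Fin n) c) : orderOf (pmk A) ∣ k := by
  refine orderOf_dvd_of_pow_eq_one ?_
  have : pmk (A ^ k) = 1 := pmk_eq_one_of (c := c) (by rw [Matrix.SpecialLinearGroup.coe_pow, h])
  simpa using this

theorem pow_scalar_of_dvd {A : Matrix (Fin n) (Fin n) F} {P : F[X]} {k : ℕ} {c : F}
    (hP : aeval A P = 0) (h : P ∣ X ^ k - C c) : A ^ k = scalar (Fin n) c := by
  obtain ⟨Q, hQ⟩ := h
  have := congrArg (aeval A) hQ
  rw [map_mul, hP, zero_mul, map_sub, map_pow, aeval_X, aeval_C, sub_eq_zero] at this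
  exact this

/-- Block diagonal matrices. -/
noncomputable def blk {k l : ℕ} (h : k + l = n) (M : Matrix (Fin k) (Fin k) F)
    (N : Matrix (Fin l) (Fin l) F) : Matrix (Fin n) (Fin n) F :=
  reindexAlgEquiv F F (finSumFinEquiv.trans (finCongr h)) (fromBlocks M 0 0 N)

theorem blk_mul {k l : ℕ} (h : k + l = n) (M M' : Matrix (Fin k) (Fin k) F)
    (N N' : Matrix (Fin l) (Fin l) F) : blk h M N * blk h M' N' = blk h (M * M') (N * N') := by
  rw [blk, blk, blk, ← map_mul, fromBlocks_multiply]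
  simp

theorem blk_one {k l : ℕ} (h : k + l = n) :
    blk h (1 : Matrix (Fin k) (Fin k) F) (1 : Matrix (Fin l) (Fin l) F) = 1 := by
  rw [blk, fromBlocks_one, map_one]

theorem blk_pow {k l : ℕ} (h : k + l = n) (M : Matrix (Fin k) (Fin k) F)
    (N : Matrix (Fin l) (Fin l) F) (j : ℕ) : blk h M N ^ j = blk h (M ^ j) (N ^ j) := by
  induction j with
  | zero => rw [pow_zero, pow_zero, pow_zero, blk_one]
  | succ j ih => rw [pow_succ, ih, blk_mul, ← pow_succ, ← pow_succ]

theorem det_blk {k l : ℕ} (h : k + l = n) (M : Matrix (Fin k) (Fin k) F)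
    (N : Matrix (Fin l) (Fin l) F) : (blk h M N).det = M.det * N.det := by
  rw [blk, det_reindexAlgEquiv, det_fromBlocks_zero₂₁]

theorem scalar_eq_blk {k l : ℕ} (h : k + l = n) (c : F) :
    scalar (Fin n) c = blk h (scalar (Fin k) c) (scalar (Fin l) c) := by
  ext i j
  obtain ⟨i, rfl⟩ := (finSumFinEquiv.trans (finCongr h)).surjective i
  obtain ⟨j, rfl⟩ := (finSumFinEquiv.trans (finCongr h)).surjective j
  rcases i with i | i <;> rcases j with j | j <;>
    simp [blk, reindexAlgEquiv_apply, diagonal_apply, Fin.ext_iff] <;> omega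

theorem blk_inj {k l : ℕ} (h : k + l = n) {M M' : Matrix (Fin k) (Fin k) F}
    {N N' : Matrix (Fin l) (Fin l) F} (e : blk h M N = blk h M' N') : M = M' ∧ N = N' := by
  have := (reindexAlgEquiv F F (finSumFinEquiv.trans (finCongr h))).injective e
  obtain ⟨h1, -, -, h2⟩ := fromBlocks_inj.1 this
  exact ⟨h1, h2⟩

theorem exists_root_of_unity {r : ℕ} (hr : r.Prime) (hrq : r ∣ Fintype.card F - 1) :
    ∃ ζ : Fˣ, orderOf ζ = r := by
  haveI := Fact.mk hr
  exact exists_prime_orderOf_dvd_card' r (by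
    rw [Nat.card_units, Nat.card_eq_fintype_card]; exact hrq)

theorem torus_scalars {r : ℕ} (hr : r.Prime) {k l : ℕ} (h : k + l = n) (hrn : ¬ r ∣ n) {ζ : Fˣ}
    (hζ : orderOf ζ = r) :
    ∃ α β : F, α ^ r = 1 ∧ β ^ r = 1 ∧ α ^ k * β ^ l = 1 ∧ α ≠ β := by
  refine ⟨((ζ ^ l : Fˣ) : F), (((ζ⁻¹) ^ k : Fˣ) : F), ?_, ?_, ?_, ?_⟩
  · rw [← Units.val_pow_eq_pow_val, ← pow_mul, mul_comm, pow_mul, ← hζ, pow_orderOf_eq_one, one_pow,
      Units.val_one]
  · rw [← Units.val_pow_eq_pow_val, ← pow_mul, mul_comm, pow_mul, ← hζ, inv_pow, pow_orderOf_eq_one,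
      inv_one, one_pow, Units.val_one]
  · rw [← Units.val_pow_eq_pow_val, ← Units.val_pow_eq_pow_val, ← Units.val_mul, ← pow_mul,
      ← pow_mul, mul_comm l k, inv_pow, mul_inv_cancel, Units.val_one]
  · intro e
    have e' : ζ ^ l = (ζ⁻¹) ^ k := Units.ext e
    rw [inv_pow, ← mul_eq_one_iff_eq_inv, ← pow_add, ← orderOf_dvd_iff_pow_eq_one, hζ] at e'
    exact hrn (by rwa [← h, add_comm])

/-- A block scalar element of order `r` and what commutes with it. -/
theorem exists_torus {r : ℕ} (hr : r.Prime) (hrq : r ∣ Fintype.card F - 1) (hrn : ¬ r ∣ n) {k l : ℕ}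
    (hk : 1 ≤ k) (hl : 1 ≤ l) (h : k + l = n) :
    ∃ B : Matrix.SpecialLinearGroup (Fin n) F, orderOf (pmk B) = r ∧
      ∀ (A : Matrix.SpecialLinearGroup (Fin n) F) (M : Matrix (Fin k) (Fin k) F)
        (N : Matrix (Fin l) (Fin l) F), (A : Matrix (Fin n) (Fin n) F) = blk h M N →
          Commute (pmk A) (pmk B) := by
  obtain ⟨ζ, hζ⟩ := exists_root_of_unity hr hrq
  obtain ⟨α, β, hα, hβ, hdet, hne⟩ := torus_scalars hr h hrn hζ
  refine ⟨mkSL (blk h (scalar (Fin k) α) (scalar (Fin l) β)) (by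
    rw [det_blk, scalar_apply, scalar_apply, det_diagonal, det_diagonal, Fin.prod_const,
      Fin.prod_const, hdet]), ?_, ?_⟩
  · haveI := Fact.mk hr
    refine orderOf_eq_prime ?_ ?_
    · rw [← pmk_pow]
      refine pmk_eq_one_of (c := 1) ?_
      rw [Matrix.SpecialLinearGroup.coe_pow, coe_mkSL, blk_pow, ← map_pow, ← map_pow, hα, hβ, map_one, map_one,
        map_one, blk_one]
    · intro e
      obtain ⟨c, -, hc⟩ := scalar_of_pmk_eq_one e
      rw [scalar_eq_blk h c] at hc
      obtain ⟨h1, h2⟩ := blk_inj h hc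
      haveI : Nonempty (Fin k) := ⟨⟨0, hk⟩⟩
      haveI : Nonempty (Fin l) := ⟨⟨0, hl⟩⟩
      exact hne ((scalar_inj.1 h1).trans (scalar_inj.1 h2).symm)
  · intro A M N hA
    have : Commute A (mkSL (blk h (scalar (Fin k) α) (scalar (Fin l) β)) (by
        rw [det_blk, scalar_apply, scalar_apply, det_diagonal, det_diagonal, Fin.prod_const,
          Fin.prod_const, hdet])) := by
      apply Subtype.ext
      show (A : Matrix (Fin n) (Fin n) F) * _ = _ * (A : Matrix (Fin n) (Fin n) F)
      rw [hA, coe_mkSL, blk_mul, blk_mul, (scalar_commute α (fun r' => Commute.all α r') M).eq,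
        (scalar_commute β (fun r' => Commute.all β r') N).eq]
    exact this.map (QuotientGroup.mk' _)

/-- An invariant decomposition gives a commuting element of order `r`. -/
theorem exists_commuting_of_decomp {r : ℕ} (hr : r.Prime) (hrq : r ∣ Fintype.card F - 1)
    (hrn : ¬ r ∣ n) (A : Matrix.SpecialLinearGroup (Fin n) F) {U W : Submodule F (Fin n → F)}
    (hc : IsCompl U W) (hU0 : U ≠ ⊥) (hW0 : W ≠ ⊥)
    (hU : ∀ v ∈ U, (A : Matrix (Fin n) (Fin n) F).mulVec v ∈ U)
    (hW : ∀ v ∈ W, (A : Matrix (Fin n) (Fin n) F).mulVec v ∈ W) :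
    ∃ B : Matrix.SpecialLinearGroup (Fin n) F, Commute (pmk A) (pmk B) ∧ orderOf (pmk B) = r := by
  classical
  have hkl : Module.finrank F U + Module.finrank F W = n := by
    rw [Submodule.finrank_add_eq_of_isCompl hc, Module.finrank_fin_fun]
  obtain ⟨ζ, hζ⟩ := exists_root_of_unity hr hrq
  obtain ⟨α, β, hα, hβ, hdet, hne⟩ := torus_scalars hr hkl hrn hζ
  let e := Submodule.prodEquivOfIsCompl U W hc
  let T : Module.End F (Fin n → F) :=
    e.toLinearMap ∘ₗ (LinearMap.prodMap (α • LinearMap.id) (β • LinearMap.id)) ∘ₗ e.symm.toLinearMap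
  have hTdet : LinearMap.det T = 1 := by
    rw [show T = e.toLinearMap ∘ₗ (LinearMap.prodMap (α • LinearMap.id) (β • LinearMap.id)) ∘ₗ
      e.symm.toLinearMap from rfl, LinearMap.det_conj, LinearMap.det_prodMap, LinearMap.det_smul,
      LinearMap.det_smul, LinearMap.det_id, mul_one, LinearMap.det_id, mul_one, hdet]
  have hTU : ∀ u ∈ U, T u = α • u := by
    intro u hu
    show e ((LinearMap.prodMap (α • LinearMap.id) (β • LinearMap.id)) (e.symm u)) = _
    have h1 : e.symm u = ((⟨u, hu⟩ : U), (0 : W)) := by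
      rw [LinearEquiv.symm_apply_eq]; simp [e]
    rw [h1]
    simp [e]
  have hTW : ∀ w ∈ W, T w = β • w := by
    intro w hw
    show e ((LinearMap.prodMap (α • LinearMap.id) (β • LinearMap.id)) (e.symm w)) = _
    have h1 : e.symm w = ((0 : U), (⟨w, hw⟩ : W)) := by
      rw [LinearEquiv.symm_apply_eq]; simp [e]
    rw [h1]
    simp [e]
  have hsplit : ∀ v : Fin n → F, ∃ u ∈ U, ∃ w ∈ W, u + w = v := fun v =>
    Submodule.mem_sup.1 (hc.sup_eq_top ▸ Submodule.mem_top)
  have hTr : T ^ r = 1 := by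
    have hpow : ∀ (j : ℕ) (u w : Fin n → F), u ∈ U → w ∈ W →
        (T ^ j) (u + w) = α ^ j • u + β ^ j • w := by
      intro j
      induction j with
      | zero => intro u w _ _; simp
      | succ j ih =>
        intro u w hu hw
        rw [pow_succ, Module.End.mul_apply, map_add, hTU u hu, hTW w hw,
          ih _ _ (U.smul_mem α hu) (W.smul_mem β hw), smul_smul, smul_smul, ← pow_succ, ← pow_succ]
    refine LinearMap.ext fun v => ?_
    obtain ⟨u, hu, w, hw, rfl⟩ := hsplit v
    rw [hpow r u w hu hw, hα, hβ, one_smul, one_smul]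
    rfl
  refine ⟨mkSL (LinearMap.toMatrix' T) (by rw [LinearMap.det_toMatrix', hTdet]), ?_, ?_⟩
  · have h1 : Commute A (mkSL (LinearMap.toMatrix' T)
        (by rw [LinearMap.det_toMatrix', hTdet])) := by
      apply Subtype.ext
      show (A : Matrix (Fin n) (Fin n) F) * LinearMap.toMatrix' T
        = LinearMap.toMatrix' T * (A : Matrix (Fin n) (Fin n) F)
      refine Matrix.mulVec_injective (funext fun v => ?_)
      rw [← Matrix.mulVec_mulVec, ← Matrix.mulVec_mulVec, LinearMap.toMatrix'_mulVec,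
        LinearMap.toMatrix'_mulVec]
      obtain ⟨u, hu, w, hw, rfl⟩ := hsplit v
      rw [map_add, hTU u hu, hTW w hw, Matrix.mulVec_add, Matrix.mulVec_add, Matrix.mulVec_smul,
        Matrix.mulVec_smul, map_add, hTU _ (hU u hu), hTW _ (hW w hw)]
    exact h1.map (QuotientGroup.mk' _)
  · haveI := Fact.mk hr
    refine orderOf_eq_prime ?_ ?_
    · rw [← pmk_pow]
      refine pmk_eq_one_of (c := 1) ?_
      rw [Matrix.SpecialLinearGroup.coe_pow, coe_mkSL, map_one]
      have e2 := map_pow (LinearMap.toMatrixAlgEquiv' : _ ≃ₐ[F] Matrix (Fin n) (Fin n) F) T r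
      rw [hTr, map_one] at e2
      exact e2.symm
    · intro e1
      obtain ⟨c, -, hc1⟩ := scalar_of_pmk_eq_one e1
      have hTv : ∀ v, T v = c • v := by
        intro v
        rw [← LinearMap.toMatrix'_mulVec T v]
        show (LinearMap.toMatrix' T) *ᵥ v = _
        rw [show LinearMap.toMatrix' T = scalar (Fin n) c from hc1]
        ext i
        simp [Matrix.mulVec_diagonal]
      obtain ⟨u, hu, hu0⟩ := Submodule.exists_mem_ne_zero_of_ne_bot hU0
      obtain ⟨w, hw, hw0⟩ := Submodule.exists_mem_ne_zero_of_ne_bot hW0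
      have h1 := (hTU u hu).symm.trans (hTv u)
      have h2 := (hTW w hw).symm.trans (hTv w)
      exact hne ((smul_left_injective F hu0 h1).trans (smul_left_injective F hw0 h2).symm)

/-- Either there is an invariant decomposition or the minimal polynomial is primary. -/
theorem decomp_or_primary (A : Matrix (Fin n) (Fin n) F) (hn : 1 ≤ n) :
    (∃ U W : Submodule F (Fin n → F), IsCompl U W ∧ U ≠ ⊥ ∧ W ≠ ⊥ ∧
      (∀ v ∈ U, A.mulVec v ∈ U) ∧ ∀ v ∈ W, A.mulVec v ∈ W) ∨
    ∃ (f : F[X]) (e : ℕ), Irreducible f ∧ f.Monic ∧ 1 ≤ e ∧ e * f.natDegree ≤ n ∧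
      minpoly F A = f ^ e := by
  classical
  haveI : Nonempty (Fin n) := ⟨⟨0, hn⟩⟩
  have hint : IsIntegral F A := A.isIntegral
  have hdeg : (minpoly F A).natDegree ≤ n := by
    refine (natDegree_le_of_dvd (Matrix.minpoly_dvd_charpoly A) (A.charpoly_monic.ne_zero)).trans ?_
    rw [Matrix.charpoly_natDegree_eq_dim, Fintype.card_fin]
  have hpos : 0 < (minpoly F A).natDegree := minpoly.natDegree_pos hint
  obtain ⟨f, hfm, hfi, hfd⟩ := exists_monic_irreducible_factor (minpoly F A)
    (not_isUnit_of_natDegree_pos _ hpos)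
  obtain ⟨e, g, hg, hm⟩ := WfDvdMonoid.max_power_factor (minpoly.ne_zero hint) hfi
  have he : 1 ≤ e := by
    rcases Nat.eq_zero_or_pos e with rfl | he
    · rw [pow_zero, one_mul] at hm
      exact absurd (hm ▸ hfd) hg
    · exact he
  have hgm : g.Monic := (hfm.pow e).of_mul_monic_left (hm ▸ minpoly.monic hint)
  rcases Nat.eq_zero_or_pos g.natDegree with hg0 | hg0
  · right
    rw [hgm.natDegree_eq_zero.1 hg0, mul_one] at hm
    refine ⟨f, e, hfi, hfm, he, ?_, hm⟩
    rw [← natDegree_pow, ← hm]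
    exact hdeg
  left
  have hco : IsCoprime (f ^ e) g := IsCoprime.pow_left (hfi.coprime_iff_not_dvd.2 hg)
  let T : Module.End F (Fin n → F) := Matrix.toLinAlgEquiv' A
  have hker : ∀ P : F[X], ∀ v ∈ LinearMap.ker (aeval T P), A.mulVec v ∈ LinearMap.ker (aeval T P) := by
    intro P v hv
    rw [LinearMap.mem_ker] at hv ⊢
    show aeval T P (T v) = 0
    have : aeval T P * T = T * aeval T P := by
      conv_lhs => rhs; rw [← aeval_X (R := F) T]
      conv_rhs => lhs; rw [← aeval_X (R := F) T]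
      rw [← map_mul, ← map_mul, mul_comm]
    have e1 := LinearMap.congr_fun this v
    rw [Module.End.mul_apply, Module.End.mul_apply, hv, map_zero] at e1
    exact e1
  have hne : ∀ P : F[X], P.Monic → P.natDegree < (minpoly F A).natDegree → aeval A P ≠ 0 := by
    intro P hP hlt h0
    have := minpoly.min F A hP h0
    rw [degree_eq_natDegree (minpoly.ne_zero hint), degree_eq_natDegree hP.ne_zero] at this
    exact absurd (WithBot.coe_le_coe.1 this) (not_le.2 hlt)
  have hdeg2 : (f ^ e).natDegree + g.natDegree = (minpoly F A).natDegree := by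
    rw [hm, (hfm.pow e).natDegree_mul hgm]
  have hf0 : 0 < (f ^ e).natDegree := by
    rw [natDegree_pow]; exact Nat.mul_pos he hfi.natDegree_pos
  have hT : ∀ P : F[X], aeval T P = Matrix.toLinAlgEquiv' (aeval A P) := fun P =>
    aeval_algHom_apply (Matrix.toLinAlgEquiv' : Matrix (Fin n) (Fin n) F ≃ₐ[F] _) A P
  have hzero : aeval T (f ^ e * g) = 0 := by
    rw [hT, ← hm, minpoly.aeval, map_zero]
  have hsup : LinearMap.ker (aeval T (f ^ e)) ⊔ LinearMap.ker (aeval T g) = ⊤ := by
    rw [Polynomial.sup_ker_aeval_eq_ker_aeval_mul_of_coprime T hco, hzero, LinearMap.ker_zero]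
  refine ⟨_, _, ⟨Polynomial.disjoint_ker_aeval_of_isCoprime T hco,
    codisjoint_iff.2 hsup⟩, ?_, ?_, hker _, hker _⟩
  · intro h0
    rw [h0, bot_sup_eq, LinearMap.ker_eq_top, hT] at hsup
    refine hne g hgm (by omega) ?_
    exact (map_eq_zero_iff (Matrix.toLinAlgEquiv' (R := F) (n := Fin n))
      (AlgEquiv.injective _)).1 hsup
  · intro h0
    rw [h0, sup_bot_eq, LinearMap.ker_eq_top, hT] at hsup
    refine hne (f ^ e) (hfm.pow e) (by omega) ?_
    exact (map_eq_zero_iff (Matrix.toLinAlgEquiv' (R := F) (n := Fin n))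
      (AlgEquiv.injective _)).1 hsup

end CfsgLib.Spectrum.Cube
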