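import Mathlib

/-!
Two primes in a Bertrand interval.
-/

set_option autoImplicit false

namespace CfsgLib.TwoPrimes

open Real in
theorem real_ineq {x : ℝ} (x_large : (512 : ℝ) ≤ x) :
    x * (2 * x) ^ √(2 * x) * (2 * x) * 4 ^ (2 * x / 3) ≤ 4 ^ x := by
  let f : ℝ → ℝ := fun x => log x + √(2 * x) * log (2 * x) + log (2 * x) - log 4 / 3 * x
  have hf' : ∀ x, 0 < x → 0 < x * (2 * x) ^ √(2 * x) * (2 * x) / 4 ^ (x / 3) := fun x h =>
    div_pos (mul_pos (mul_pos h (rpow_pos_of_pos (mul_pos two_pos h) _)) (mul_pos two_pos h))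
      (rpow_pos_of_pos four_pos _)
  have hf : ∀ x, 0 < x → f x = log (x * (2 * x) ^ √(2 * x) * (2 * x) / 4 ^ (x / 3)) := by
    intro x h5
    have h6 := mul_pos (zero_lt_two' ℝ) h5
    have h7 := rpow_pos_of_pos h6 (√(2 * x))
    rw [log_div (mul_pos (mul_pos h5 h7) h6).ne' (rpow_pos_of_pos four_pos _).ne',
      log_mul (mul_pos h5 h7).ne' h6.ne', log_mul h5.ne' h7.ne', log_rpow h6, log_rpow zero_lt_four]
    simp only [f]; ring
  have h5 : 0 < x := lt_of_lt_of_le (by norm_num1) x_large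
  rw [← div_le_one (rpow_pos_of_pos four_pos x), ← div_div_eq_mul_div, ← rpow_sub four_pos,
    show x - 2 * x / 3 = x / 3 by ring, ← log_nonpos_iff (hf' x h5).le, ← hf x h5]
  have h : ConcaveOn ℝ (Set.Ioi 0.5) f := by
    have hl : ConcaveOn ℝ (Set.Ioi 0.5) log :=
      strictConcaveOn_log_Ioi.concaveOn.subset (Set.Ioi_subset_Ioi (by norm_num)) (convex_Ioi 0.5)
    apply ConcaveOn.sub
    · apply ConcaveOn.add
      · apply ConcaveOn.add
        · exact hl
        convert!
          ((strictConcaveOn_sqrt_mul_log_Ioi.concaveOn.comp_linearMap ((2 : ℝ) • LinearMap.id)))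
          using 1
        ext x
        simp only [Set.mem_Ioi, Set.mem_preimage, LinearMap.smul_apply,
          LinearMap.id_coe, id_eq, smul_eq_mul]
        rw [← mul_lt_mul_iff_right₀ (two_pos)]
        norm_num1
        rfl
      · have h2 := (concaveOn_const (log 2) (convex_Ioi (0.5 : ℝ))).add hl
        refine h2.congr fun x hx => ?_
        have : (0 : ℝ) < x := lt_trans (by norm_num1) hx
        simp [log_mul two_ne_zero this.ne']
    apply ConvexOn.smul
    · refine div_nonneg (log_nonneg (by norm_num1)) (by norm_num1)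
    · exact convexOn_id (convex_Ioi (0.5 : ℝ))
  suffices ∃ x1 x2, 0.5 < x1 ∧ x1 < x2 ∧ x2 ≤ x ∧ 0 ≤ f x1 ∧ f x2 ≤ 0 by
    obtain ⟨x1, x2, h1, h2, h0, h3, h4⟩ := this
    exact (h.right_le_of_le_left'' h1 ((h1.trans h2).trans_le h0) h2 h0 (h4.trans h3)).trans h4
  refine ⟨18, 512, by norm_num1, by norm_num1, x_large, ?_, ?_⟩
  · have : √(2 * 18 : ℝ) = 6 := (sqrt_eq_iff_mul_self_eq_of_pos (by norm_num1)).mpr (by norm_num1)
    rw [hf _ (by norm_num1), log_nonneg_iff (by positivity), this, one_le_div (by norm_num1)]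
    norm_num1
  · have : √(2 * 512) = 32 :=
      (sqrt_eq_iff_mul_self_eq_of_pos (by norm_num1)).mpr (by norm_num1)
    rw [hf _ (by norm_num1), log_nonpos_iff (hf' _ (by norm_num1)).le, this,
        div_le_one (by positivity)]
    rw [show (512 : ℝ) = 2 ^ (9 : ℕ) by norm_num1, show (32 : ℝ) = ((32 : ℕ) : ℝ) by norm_num1,
      rpow_natCast, show (4 : ℝ) = 2 ^ (2 : ℝ) by rw [rpow_two]; norm_num1,
      ← rpow_mul (by norm_num1)]
    have e : (2 : ℝ) ^ (9 : ℕ) * (2 * 2 ^ (9 : ℕ)) ^ (32 : ℕ) * (2 * 2 ^ (9 : ℕ))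
        = (2 : ℝ) ^ (339 : ℕ) := by
      rw [← pow_succ', ← pow_mul, ← pow_add, ← pow_add]
    rw [e, ← rpow_natCast]
    apply rpow_le_rpow_of_exponent_le <;> norm_num1

theorem nat_ineq {n : ℕ} (hn : 512 ≤ n) :
    n * (2 * n) ^ Nat.sqrt (2 * n) * (2 * n) * 4 ^ (2 * n / 3) ≤ 4 ^ n := by
  rw [← @Nat.cast_le ℝ]
  simp only [Nat.cast_mul, Nat.cast_pow, ← Real.rpow_natCast, Nat.cast_ofNat]
  refine _root_.trans ?_ (real_ineq (by exact_mod_cast hn))
  gcongr
  · have : 0 < 2 * n := by omega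
    exact_mod_cast this
  · exact_mod_cast Real.nat_sqrt_le_real_sqrt
  · norm_num1
  · exact Nat.cast_div_le.trans (by norm_cast)

theorem centralBinom_le (n : ℕ) (hn : 512 ≤ n)
    (h : ∀ p q : ℕ, p.Prime → q.Prime → n < p → p ≤ 2 * n → n < q → q ≤ 2 * n → p = q) :
    Nat.centralBinom n ≤ (2 * n) ^ Nat.sqrt (2 * n) * (2 * n) * 4 ^ (2 * n / 3) := by
  have n2_pos : 1 ≤ 2 * n := by omega
  set f : ℕ → ℕ := fun x => x ^ (Nat.centralBinom n).factorization x with hf
  let A := (Finset.range (2 * n + 1)).filter fun p => p.Prime ∧ p ≤ Nat.sqrt (2 * n)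
  let B := (Finset.range (2 * n + 1)).filter fun p => p.Prime ∧ Nat.sqrt (2 * n) < p ∧ p ≤ 2 * n / 3
  let C := (Finset.range (2 * n + 1)).filter fun p => p.Prime ∧ n < p
  have hA : ∏ x ∈ A, f x ≤ (2 * n) ^ Nat.sqrt (2 * n) := by
    refine (Finset.prod_le_prod' fun p _ => (?_ : f p ≤ 2 * n)).trans ?_
    · exact Nat.pow_factorization_choose_le (by omega)
    rw [Finset.prod_const]
    refine Nat.pow_le_pow_right (by omega) ?_
    have : (Finset.Icc 1 (Nat.sqrt (2 * n))).card = Nat.sqrt (2 * n) := by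
      rw [Nat.card_Icc, Nat.add_sub_cancel]
    refine (Finset.card_le_card fun x hx => ?_).trans this.le
    obtain ⟨-, h1, h2⟩ := Finset.mem_filter.1 hx
    exact Finset.mem_Icc.mpr ⟨h1.one_lt.le, h2⟩
  have hB : ∏ x ∈ B, f x ≤ 4 ^ (2 * n / 3) := by
    refine le_trans ?_ (primorial_le_four_pow (2 * n / 3))
    refine (Finset.prod_le_prod' fun p hp => (?_ : f p ≤ p)).trans ?_
    · obtain ⟨-, h1, h2, h3⟩ := Finset.mem_filter.1 hp
      exact (Nat.pow_le_pow_right h1.one_lt.le
        (Nat.factorization_choose_le_one (Nat.sqrt_lt'.mp h2))).trans (pow_one p).le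
    unfold primorial
    refine Finset.prod_le_prod_of_subset_of_one_le' (fun p hp => ?_)
      (fun p hp _ => (Finset.mem_filter.1 hp).2.one_lt.le)
    obtain ⟨-, h1, -, h3⟩ := Finset.mem_filter.1 hp
    exact Finset.mem_filter.2 ⟨Finset.mem_range.2 (by omega), h1⟩
  have hC : ∏ x ∈ C, f x ≤ 2 * n := by
    refine (Finset.prod_le_pow_card C f (2 * n) (fun p _ => Nat.pow_factorization_choose_le (by omega))).trans ?_
    refine (Nat.pow_le_pow_right (by omega) (?_ : C.card ≤ 1)).trans (pow_one _).le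
    rw [Finset.card_le_one]
    intro p hp q hq
    obtain ⟨hp0, hp1, hp2⟩ := Finset.mem_filter.1 hp
    obtain ⟨hq0, hq1, hq2⟩ := Finset.mem_filter.1 hq
    exact h p q hp1 hq1 hp2 (by rw [Finset.mem_range] at hp0; omega) hq2
      (by rw [Finset.mem_range] at hq0; omega)
  have hd1 : Disjoint A B := Finset.disjoint_left.2 fun p hp hq => by
    obtain ⟨-, -, h2⟩ := Finset.mem_filter.1 hp
    obtain ⟨-, -, h3, -⟩ := Finset.mem_filter.1 hq
    omega
  have hs : Nat.sqrt (2 * n) ≤ n := by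
    by_contra hc
    have h1 := Nat.sqrt_le (2 * n)
    have : (n + 1) * (n + 1) ≤ Nat.sqrt (2 * n) * Nat.sqrt (2 * n) :=
      Nat.mul_le_mul (by omega) (by omega)
    nlinarith
  have hd2 : Disjoint (A ∪ B) C := Finset.disjoint_left.2 fun p hp hq => by
    obtain ⟨-, -, h3⟩ := Finset.mem_filter.1 hq
    rcases Finset.mem_union.1 hp with hp | hp
    · obtain ⟨-, -, h2⟩ := Finset.mem_filter.1 hp; omega
    · obtain ⟨-, -, -, h2⟩ := Finset.mem_filter.1 hp; omega
  have hall : Nat.centralBinom n = ∏ x ∈ A ∪ B ∪ C, f x := by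
    refine (n.prod_pow_factorization_centralBinom).symm.trans (Finset.prod_subset ?_ ?_).symm
    · intro p hp
      simp only [Finset.mem_union, A, B, C, Finset.mem_filter] at hp
      rcases hp with (⟨hp, -⟩ | ⟨hp, -⟩) | ⟨hp, -⟩ <;> exact hp
    intro p hp hnot
    simp only [Finset.mem_union, A, B, C, Finset.mem_filter, hp, true_and, not_or, not_and] at hnot
    by_cases hpp : p.Prime
    · obtain ⟨⟨h1, h2⟩, h3⟩ := hnot
      have h1' := h1 hpp
      have h3' := h3 hpp
      have h2' : ¬ p ≤ 2 * n / 3 := fun hh => h2 hpp (by omega) hh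
      rw [Nat.factorization_centralBinom_of_two_mul_self_lt_three_mul (by omega) (by omega) (by omega),
        pow_zero]
    · rw [Nat.factorization_eq_zero_of_not_prime _ hpp, pow_zero]
  rw [hall, Finset.prod_union hd2, Finset.prod_union hd1]
  calc (∏ x ∈ A, f x) * (∏ x ∈ B, f x) * ∏ x ∈ C, f x
      ≤ (2 * n) ^ Nat.sqrt (2 * n) * 4 ^ (2 * n / 3) * (2 * n) :=
        Nat.mul_le_mul (Nat.mul_le_mul hA hB) hC
    _ = _ := by ring

theorem two_primes {m : ℕ} (hm : 6 ≤ m) :
    ∃ p q : ℕ, p.Prime ∧ q.Prime ∧ m < p ∧ p < q ∧ q ≤ 2 * m := by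
  rcases lt_or_ge m 512 with hs | hl
  · rcases Nat.lt_or_ge m 7 with h | h
    · exact ⟨7, 11, by norm_num, by norm_num, by omega, by omega, by omega⟩
    rcases Nat.lt_or_ge m 11 with h | h
    · exact ⟨11, 13, by norm_num, by norm_num, by omega, by omega, by omega⟩
    rcases Nat.lt_or_ge m 17 with h | h
    · exact ⟨17, 19, by norm_num, by norm_num, by omega, by omega, by omega⟩
    rcases Nat.lt_or_ge m 29 with h | h
    · exact ⟨29, 31, by norm_num, by norm_num, by omega, by omega, by omega⟩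
    rcases Nat.lt_or_ge m 47 with h | h
    · exact ⟨47, 53, by norm_num, by norm_num, by omega, by omega, by omega⟩
    rcases Nat.lt_or_ge m 79 with h | h
    · exact ⟨79, 83, by norm_num, by norm_num, by omega, by omega, by omega⟩
    rcases Nat.lt_or_ge m 151 with h | h
    · exact ⟨151, 157, by norm_num, by norm_num, by omega, by omega, by omega⟩
    rcases Nat.lt_or_ge m 283 with h | h
    · exact ⟨283, 293, by norm_num, by norm_num, by omega, by omega, by omega⟩
    exact ⟨523, 541, by norm_num, by norm_num, by omega, by omega, by omega⟩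
  · by_contra hc
    push Not at hc
    have h := centralBinom_le m hl (fun p q hp hq h1 h2 h3 h4 => by
      rcases lt_trichotomy p q with h | h | h
      · have := hc p q hp hq h1 h; omega
      · exact h
      · have := hc q p hq hp h3 h; omega)
    have h4 := Nat.four_pow_lt_mul_centralBinom m (by omega)
    have h5 : m * Nat.centralBinom m ≤ 4 ^ m := by
      refine (Nat.mul_le_mul_left m h).trans (le_of_eq_of_le ?_ (nat_ineq hl))
      ring
    omega

/-- two primes in `(n/2, n]` -/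
theorem two_primes_upper {n : ℕ} (hn : 11 ≤ n) :
    ∃ p q : ℕ, p.Prime ∧ q.Prime ∧ n < 2 * p ∧ p < q ∧ q ≤ n := by
  rcases Nat.lt_or_ge n 12 with h | h
  · exact ⟨7, 11, by norm_num, by norm_num, by omega, by omega, by omega⟩
  · obtain ⟨p, q, hp, hq, h1, h2, h3⟩ := two_primes (m := n / 2) (by omega)
    exact ⟨p, q, hp, hq, by omega, h2, by omega⟩

end CfsgLib.TwoPrimes
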